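import Cfsg.Agent.Lib.F6.Co
import Cfsg.Agent.Lib.L72.Model
import Cfsg.Agent.Lib.GW.Cor
import Cfsg.Prelude.Def_Classical
import Cfsg.Prelude.Def_JankoFourType
import Cfsg.Prelude.Def_Sporadic
import Cfsg.Prelude.Def_Spor_Conway

/-!
# Groups with a 2-local subgroup `2¹⁰ : L₅(2)`: definitions and codes (see `docs/X10.md`)

Indices are `0, …, 4`. `A = Λ²V`; the vector `e_i ∧ e_j`, `i < j`, is bit `j (j - 1) / 2 + i` of the number `m < 1024` of
`D.a m`. A matrix is a 25-bit number (`L72.Cd`), the element `D.a m * D.ρ x` of `N(A)` has the code `m + 1024 * c`.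
-/

set_option autoImplicit false
set_option maxRecDepth 100000
set_option linter.unusedSectionVars false

namespace Cfsg.Lib.X10

open Subgroup Cfsg.Lib.RI Cfsg.Lib.SzS Cfsg.Lib.SzV Cfsg.Lib.BG Cfsg.Lib.Pres Cfsg.Lib.Calc Cfsg.Lib.T2 Cfsg.Lib.F2 Cfsg.Lib.F6
  Cfsg.Lib.Linear
open Cfsg.Lib.L72 (M Cd mu tc E el eqc nec cmc cd_eq exists_cd mk enum Pre card_M)
open scoped Cfsg.Lib.Transfer

/-- the table of the exterior products -/
def WT : ℕ := 0x4b254de4996d6cdf88e273ab6e6c7b55e2fc0f038bd571eb9aad9ce387e1b35b5263789512c0012c0037c945bd247edb09ee30bbea4d7f14f2f80f2f80d7f14bbea49ee307edb05bd2437c9412c00254df0004a6ddfd48968af6f78a262e7fd5c2b40f579fd030abdebd98a287f5b75a12237c951280037894128007f9b45a920bfab49aa20f7b94d2b00f7b94d2b00bfab49aa207f9b45a92037894128004996f6ddfe00049244d8cfb77ebfe686251a26c0f9bafddf3eb0289946187f9b75bd2636091124005b5247f5b41240036490df734fb7a496610b2680fb7a4df734b2680966107f5b45b52436490124006cdfb4896a244d900048eeff3cab62a66d182240fcfbbd8b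2ab4699902087edb35a92236491120007e1b05a1203609012000fe3b0da320b629092200fe3b0da320b6290922007e1b05a12036090120008e27baf6fecfb7deeff800043214c64194560dc0fe3bbdf73ebfabd9ee3870183515063188510c009ce30bdeb4ddf34fcfb010c0031c8451d0470d80fcfb0ddf34bdeb49ce3070d8051d0431c8410c00ab6ef8a26aebfedcab68214c70004261dc540940fb7afda32abbead9aa28715875010231c8510800b9aa498a20f9ba4d8b2031884108007198450900f9ba4d8b20b9aa498a2071984509003188410800c7b5fe7fde86259a66d84194761dc600041204c0f7b9fd7f1eb6299966187198751d063008110400d5714f579494610b469051504715841040030480f5794d5714b46909461071584515043048010400e2fcbc2b4aa26c98224860dc340942204c100040f2f8bd2b0ab26899220870d83509023048110000f0380d0300b02809020070180501003008010000f0380d0300b02809020070180501003008010000f03cbf57def9bedfcff8fe3f3fb7e6f7bd5f2fc00000b0541e0982d0cc380e0330b4260781502c00e2f80e7f94ebfa4eefb0eefb0ebfa4e7f94e2f8002c0007c140bc240ec300ec300bc2407c1402c00d575fd034addf7dd8b68df777da362d7f55d2b400541f0000a0dc3d088280f4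370a02207c1502800c7b14c2b00cfb34cab20cfb34cab20c7b14c2b0007814028000f8340a8200f8340a8200781402800b9aefbdefeb02c9b46d8bfaf7bbee6b62d1b26c00982f0dc3e00009044180f8370bc260601102400ab6a4af6b4a2680a6690af6b4ab6a4a6690a26800b4240f43402400064100f4340b42406410024009ce7b98a6a94659902489ee739aa6296651922400cc3b0882a04419000080ec330a82206411020008e2308a22086210822008e2308a22086210822000e0300a02006010020000e0300a02006010020007e1fb7f5fe7f9fd7edf8701c3715c6719c570dc00e03b0f43e0f83d0ec3800003014060180500c006cdb06ddb46ddb46cdb060d8061d8461d8460d800cc300dc340dc340cc3000c0001c0401c0400c005b56f5a16a5bd6d5a968515475014251d45509400b42f0a02a0bc2d0a828014070000201c050080049924489204992448920419044090041904409000982408820098240882001804008000180400800378df37cde360d9364d8318c731cc6300c1304c00781f07c1e06019064180180701c0600001004002549425494244902449021484214842048020480054140541404410044100140401404004000040012c4b1284a124491204810c4310842104411004002c0b0280a024090200800c0300802004010000000000000000000000000000000000000000000000000000000000000000000000000000000000000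

/-- `u ∧ v` for `u, v < 32` -/
def wg (u v : ℕ) : ℕ := get 10 WT (Nat.add (Nat.mul 32 u) v)

/-- the matrix of `Λ² c` -/
noncomputable def lam (c : ℕ) : ℕ :=
  forceN c fun c => pack 10 (fun k => wg (get 5 c (get 3 438374464 k)) (get 5 c (get 3 613529233 k))) 10

/-- the code of the identity of `N(A)` -/
def one : ℕ := 17452565504

/-- the product of codes -/
noncomputable def nm (n k : ℕ) : ℕ := forceN n fun n => forceN k fun k => forceN (Nat.shiftRight n 10) fun c =>
  Nat.add (Nat.xor (Nat.land n 1023) (app 10 (lam c) (Nat.land k 1023))) (Nat.shiftLeft (mu c (Nat.shiftRight k 10)) 10)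

/-- the power `c ^ k` of a matrix, `k < 2 ^ j` -/
noncomputable def pw2 (j : ℕ) : ℕ → ℕ → ℕ :=
  Nat.rec (motive := fun _ => ℕ → ℕ → ℕ) (fun _ _ => 17043521)
    (fun _ ih k c => forceN c fun c => mu (cnd (bit k 0) c 17043521) (ih (Nat.shiftRight k 1) (mu c c))) j

/-- the inverse matrix -/
noncomputable def minv (c : ℕ) : ℕ := pw2 24 9999359 c

/-- the inverse code -/
noncomputable def ninv (n : ℕ) : ℕ := forceN n fun n => forceN (minv (Nat.shiftRight n 10)) fun c =>
  Nat.add (app 10 (lam c) (Nat.land n 1023)) (Nat.shiftLeft c 10)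

/-- the test for codes -/
noncomputable def vd (n : ℕ) : Bool := forceB (Nat.shiftRight n 10) fun c => forceB (minv c) fun d =>
  band (band (blt c 33554432) (Nat.beq (mu c d) 17043521)) (Nat.beq (mu d c) 17043521)

/-- the unitriangular matrix with the entries `k < 1024` above the diagonal (numbered as the basis of `A`) -/
def uc (k : ℕ) : ℕ := 17043521 + 32 * (k &&& 1) + 512 * (k &&& 6) + 4096 * (k &&& 56) + 16384 * (k &&& 960)

/-- the transvection `e₄ ↦ e₄ + u`, `u < 16` -/
def tu (u : ℕ) : ℕ := 17043521 + 1048576 * u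

/-- the matrix with a given code -/
noncomputable def dec (c : ℕ) : M := by classical exact if h : ∃ x m, Cd x c m then h.choose else 1

theorem dec_eq {x : M} {n m : ℕ} [h : Cd x n m] : dec n = x := by
  have k : ∃ x m, Cd x n m := ⟨x, m, h⟩
  obtain ⟨m', _⟩ := k.choose_spec
  rw [dec, dif_pos k]; exact eqc rfl

/-- the Sylow 2-subgroup -/
abbrev US : Subgroup M := unipGL Fin.val
/-- the transvections with axis `⟨e₀, …, e₃⟩` -/
abbrev UH : Subgroup M := unipGL ![0, 0, 0, 0, 1]
/-- the stabiliser `2⁴ : L₄(2)` of the hyperplane -/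
abbrev PH : Subgroup M := parabGL ![0, 0, 0, 0, 1]
/-- `O₂` of the stabiliser of the line `⟨e₀, e₁⟩` -/
abbrev UL : Subgroup M := unipGL ![0, 0, 1, 1, 1]
/-- the stabiliser `2⁶ : (S₃ × L₃(2))` of the line -/
abbrev PL : Subgroup M := parabGL ![0, 0, 1, 1, 1]

universe u

variable {G : Type u} [Group G]

/-- the module in coordinates -/
structure Md (A : Subgroup G) (π : G → M) (e : ℕ → G) : Prop where
  q : Qm 𝐍(A) A π
  bs : Bs A e 10
  act : ∀ g ∈ 𝐍(A), ∀ n m, Cd (π g) n m → LA e 10 g (lam n)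
  cen : 𝐂(A) ≤ A

/-- the split extension in coordinates -/
structure Dt (G : Type u) [Group G] where
  A : Subgroup G
  π : G → M
  e : ℕ → G
  ρ : M →* G
  md : Md A π e
  sec : ∀ x, ρ x ∈ 𝐍(A) ∧ π (ρ x) = x

/-- a basis of `A' = Z U` -/
def LA' : List ℕ := [one + 1, one + 2, one + 4, one + 8, one + 16, one + 32, 1024 * tu 1, 1024 * tu 2, 1024 * tu 4, 1024 * tu 8]
/-- a basis of `B` -/
def LB : List ℕ := [one + 1, one + 2, one + 4, one + 8, one + 16, one + 32, 64 + 1024 * tu 1, 128 + 1024 * tu 2,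
  256 + 1024 * tu 4, 512 + 1024 * tu 8]

/-- the cocycle of `τ` on the transvections of `L₄(2)` -/
def zt (b : Bool) (i j : ℕ) : ℕ := cond b (get 6 (get 24 0x29e8c9c031658c03531ba40 i) j) 0

namespace Dt

variable (D : Dt G)

/-- the vector with number `m` -/
def a (m : ℕ) : G := El D.e m 10
/-- the transvection `e_j ↦ e_j + e_i` -/
def x (i j : ℕ) : G := D.ρ (E i j)
/-- the element with code `n` -/
noncomputable def g (n : ℕ) : G := D.a (n &&& 1023) * D.ρ (dec (n >>> 10))
/-- the element with code `n`, for numerals -/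
noncomputable def k (n : ℕ) (_h : vd n = true := by decide +kernel) : G := D.g n
/-- the central involution -/
abbrev z : G := D.a 1
/-- preimages -/
def pre (X : Subgroup M) : Subgroup G := ppre D.md.q.hom X
/-- the Sylow 2-subgroup of `N(A)` -/
abbrev S : Subgroup G := D.pre US
/-- `A U` -/
abbrev J : Subgroup G := D.pre UH
/-- `2¹⁰ : 2⁴ : L₄(2)` -/
abbrev M0 : Subgroup G := D.pre PH
/-- `N(A) ⊓ C(z)` -/
abbrev NH : Subgroup G := D.pre PL
/-- the vectors with number in the complement of the mask `k` -/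
def Am (k : ℕ) : Subgroup G where
  carrier := {y | ∃ m < 1024, m &&& k = 0 ∧ y = D.a m}
  one_mem' := ⟨0, by decide, Nat.zero_and k, (El_zero 10).symm⟩
  mul_mem' := by
    rintro _ _ ⟨m, a, b, rfl⟩ ⟨n, c, d, rfl⟩
    exact ⟨m ^^^ n, Nat.xor_lt_two_pow (n := 10) a c, by rw [Nat.and_xor_distrib_right, b, d]; rfl, (D.md.bs.xor m n 10).symm⟩
  inv_mem' := by
    rintro _ ⟨m, a, b, rfl⟩
    exact ⟨m, a, b, inv_eq_of_mul_eq_one_left (D.md.bs.sq _ (D.md.bs.el m))⟩
/-- `Λ²⟨e₀, …, e₃⟩` -/
abbrev Z : Subgroup G := D.Am 960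
/-- the family of elements given by a list of codes -/
noncomputable def fl (L : List ℕ) (j : ℕ) : G := D.g (nth one L j)
/-- the subgroup generated by a list of codes -/
def sp (L : List ℕ) : Subgroup G := closure (D.fl L '' Set.Iio L.length)
/-- the second `2¹⁰` -/
abbrev A' : Subgroup G := D.sp LA'
/-- the third `2¹⁰` -/
abbrev B : Subgroup G := D.sp LB
/-- the extraspecial group `2¹⁺¹²` -/
def Q : Subgroup G := D.Am 800 ⊔ UL.map D.ρ
/-- a basis of `V` -/
noncomputable def fV (τ : G) (j : ℕ) : G := if j = 10 then τ else D.fl LB j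
/-- the group `2¹¹` -/
def V (τ : G) : Subgroup G := D.B ⊔ zpowers τ
/-- the Sylow 2-subgroup when `A` is not weakly closed -/
def T (τ : G) : Subgroup G := D.S ⊔ zpowers τ

end Dt

/-- `n` is the code of `y` -/
class Rp (D : Dt G) (y : G) (n : outParam ℕ) : Prop where
  out : ∃ x m, Cd x (n >>> 10) m ∧ y = D.a (n &&& 1023) * D.ρ x

/-- the involution which interchanges `A` and `A'` -/
structure Tau (D : Dt G) (τ : G) (b : Bool) : Prop where
  sq : τ * τ = 1
  z : ∀ m < 64, cj τ (D.a m) = D.a m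
  a : ∀ i < 4, cj τ (D.a (64 * 2 ^ i)) = D.x i 4
  x : ∀ i < 4, ∀ j < 4, i ≠ j → cj τ (D.x i j) = D.a (zt b i j) * D.x i j

/-- the fifth fundamental reflection -/
structure N5 (D : Dt G) (n : G) : Prop where
  sq : n * n = 1
  br : n * D.a 512 * n = D.a 512 * n * D.a 512
  k : ∀ i < 3, ∀ j < 3, cj n (D.x i j) = D.x i j
  l : cj n (D.x 3 4) = D.x 3 4 ∧ cj n (D.x 4 3) = D.x 4 3
  z : ∀ m < 8, cj n (D.a m) = D.a m
  a : ∀ i < 3, cj n (D.a (8 * 2 ^ i)) = D.x i 4 ∧ cj n (D.a (64 * 2 ^ i)) = D.x i 3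

/-- the extraspecial group is normal in `C(z)` and `C(z)/Q` acts faithfully on `Q/⟨z⟩` -/
structure Qn (D : Dt G) : Prop where
  nrm : 𝐂[D.z] ≤ 𝐍(D.Q)
  cen : ∀ h ∈ 𝐂[D.z], (∀ q ∈ D.Q, cj h q * q⁻¹ ∈ zpowers D.z) → h ∈ D.Q

/-- the case in which `A` is weakly closed -/
structure Wc (D : Dt G) : Prop where
  syl : Syl 2 D.S ⊤
  wc : ∀ g, g ⋆ D.A ≤ D.S → g ∈ 𝐍(D.A)
  od : GW.Od 𝐂[D.z] = ⊥

/-- the statement S3318 for the group `G` -/
def St18 (G : Type u) [Group G] : Prop := ∀ V : Subgroup G, IsElementaryAbelian 2 V → Nat.card V = 2 ^ 11 →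
  centralizer (V : Set G) = V → Spor.IsoM24 (normalizer (V : Set G) ⧸ V.subgroupOf (normalizer (V : Set G))) →
  (∀ T : Sylow 2 (normalizer (V : Set G)), ∀ s : normalizer (V : Set G), s ∈ (T : Subgroup (normalizer (V : Set G))) →
    orderOf s = 2 → (∀ y ∈ (T : Subgroup (normalizer (V : Set G))), y * s = s * y) →
    pPrimeCore 2 (centralizer ({(s : G)} : Set G)) = ⊥) →
  V.Normal ∨ IsOfJankoFourType G ∨ IsFi24' G ∨ Spor.IsoCo1 G

/-- `Ω⁺₁₀(2)` -/
abbrev Om := ↥(Cfsg.Omega (ZMod 2) (Cfsg.quadFormPlus 5 (ZMod 2)))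

end Cfsg.Lib.X10
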