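import Cfsg.Agent.Lib.X10.Off
import Cfsg.Agent.Lib.Inv.Misc
import Cfsg.Agent.Lib.Loc.Product

/-!
# Involutions of `N(A)` (helper1)
-/

set_option autoImplicit false
set_option maxRecDepth 100000
set_option linter.unusedSectionVars false
set_option exponentiation.threshold 12000

namespace Cfsg.Lib.X10.HN

open Subgroup Cfsg.Lib.RI Cfsg.Lib.SzS Cfsg.Lib.SzV Cfsg.Lib.BG Cfsg.Lib.Pres Cfsg.Lib.Calc Cfsg.Lib.T2 Cfsg.Lib.F2 Cfsg.Lib.F6
  Cfsg.Lib.Linear
open Cfsg.Lib.L72 (M Cd mu tc E el eqc nec cmc cd_eq exists_cd mk enum Pre card_M)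
open scoped Cfsg.Lib.Transfer

universe u

variable {G : Type u} [Group G] [Finite G] {D : Dt G} {g k s t y : G} {I U : Subgroup G}

open Dt Off

/-- matrices which conjugate the involutions of `US` to the representatives -/
def TC : ℕ := 0x821672c10c11e0823c503bd62821853c10b11e082344e35a41821872c10c116085bc50391e2821272c109116084bc50291e2821eb1410458a0359cb023047821a91410448a04614f01ac47811872c08c116037ac5019162805272c029116016ac5009162c7a960e114b0708a5c2e452c1c78560e102b07081dc2e40ac1822970c114b06081dc3040ac13a29709914b04e81dc2640ac1821871410c28a0859c50424e281187130943060359c500a4e28218f140ec78a086344e352c18206f140e378a080bc50385e2820833410231608214d040866820832c10431608098b040465820663c10431e0821cd0408c7e61820c11410e08a0c50c3043c20832e10119608204d040827c23830b11c10708a0c5045022861820c11c10614e0830a3041223830911410c88a0c44a3041820672c10411e08214f040c47820872c1041160809cb040445c72820e11410708a0c2c45041822830c11410488a0c2445041820861e104386081187840ce1821821c08c10f8860c3c23061820870c1043060819c30408c1821830c10c1060460c3023041820871410428a0819c50404e2821831408c18a086044c25041820821e1041860820c304104186ad20c34490608b48304124116ad208b4490448b482241241820831410408a18208f0c10a3860822c3011161ca087045043872811c11408d18208e8c10a3460822a3011149ca0864e5023222821911408e1ca08304504127282091141061820870c1023460821a30408e1820828c1041820827c10468e08209b042445820825c10448e082093009049820823c10428e08208b040445820821c10408e082083041041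

/-- witnesses for the pairs of commuting involutions -/
def TW : ℕ := 0xc800a3800000362028a200000e505409000003941503000000d880a3880000320028a000000e005409000003801503000000d000a3880000340028a200000c50540d000003141502000000c000a3800000300028a000000c00540d000003001502000000a40500d000002901402400000880083800000262020a200000a00500d000002801402400000988083880000220020a000000900083880000240020a200000840500c000002101402000000800083800000200020a000000800500c0000020014020000440d00c6c00011030031b4000440d00c6d00011030031b0000440900c480001102003124000440900c490001102003120000400d00c610001003003184000400900c410001002003104000400d00c600001003003180000400900c40000100200310000000e906405800003801901600000c806005800003001801600000a9064048000028019012000008806004800002001801200184020440d000610081103000180020440d00060008110300010402044090004100811020001000204409000400081102000000540282e00000118080f800000560283c00000110080b000000500382a000001400c0e8000004003838000001000c0a000000460383e000001580c0f000000560283a00000118080e0208420480a010821081002806208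420480801882108120200400000540382e000001100c0b000000540282a00000110080a0200420480a0108010810028062004204808018801081202004208400480a0108210010028062084004808018821001202004200400480a0108010010028062004004808018801001202004000004801a3800000168048a8000005a01a3a00000120048a0000005001a3a00000140048a8000004001a3800000100048a01101403002240440400c008941101403002250440400c008901001403002210400400c008841001403002200400400c00880001880c0041e000600380107000108080041a000400280106020810028041088204008010422001202806108800400801842001880e0041e0006203001070001080a0041a00042020010602081202806100820400a010402081002006100820400801040001b00107003000600041c00c001200106003000400041800c210080084405884020021101220008008440588002002110122201001002160800600400850220180100216088040040085000184020400d000410081002400184020400c000410081002000180020400d000400081002400180020400c0004000810020240040085003080010021400c00000010901c000000042407800000010901800000004240680000002842c98000000810a260000002842c90000000810a2400000010801e000000042007000000010801a00000004200600000002840c18000000a1030400000020408180000008102040000021014c880000084042220000020014c080000080042020000400920140000100248058000040090016000010024005000002480042600000900010880000000002f10000000000b840000000002d10000000000b040000000002b10000000000a840000000002910000000000a040000001010720000000404188000000101052000000040410800004008203200001002080880400202004100000000000000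

theorem cls (h : y ∈ 𝐍(D.A)) (h2 : y * y = 1) : ∃ k ∈ 𝐍(D.A), ∃ m < 1024, ∃ c, (c = 17043521 ∨ c = 18092097 ∨ c = 18157633) ∧
    Rp D (cj k y) (m + 1024 * c) := by
  obtain ⟨l, hl, f⟩ := syl_S.exists_conj_le (pg_zp (two_of_sq h2)) (zpowers_le.2 h)
  obtain ⟨m, a, k, b, r⟩ := S_rp (show cj l y ∈ D.S from f (Transfer.conj_mem_conj.2 (mem_zpowers y)))
  obtain ⟨i, hi, e⟩ := idx b (fix_of_sq a r (cj_mul_self h2 l)).2
  have t := of_allLt (show allLt 192 (fun i => forceB (get 25 TC i) fun c => band (vd (0 + 1024 * c))
    (forceB (mu (mu c (ik i)) (minv c)) fun d => bor (Nat.beq d 17043521) (bor (Nat.beq d 18092097) (Nat.beq d 18157633)))) = true by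
      decide +kernel) hi
  simp only [forceB_eq, band_eq_true, bor_eq_true, beq_iff, e] at t
  have r' := rp_g (D := D) t.1
  obtain ⟨d', f⟩ := cd_of a r
  obtain ⟨c', f'⟩ := cd_of (by decide) r'
  have : Cd (D.π (cj (D.g (0 + 1024 * get 25 TC i)) (cj l y))) (mu (mu (get 25 TC i) (uc k)) c') (mu (get 25 TC i) (mu d' c')) := by
    rw [pcj D.md.q.hom r'.mem r.mem]; exact L72.cd_mul
  obtain ⟨n, d, o⟩ := rp_of (cj_mem r'.mem r.mem)
  exact ⟨_, mul_mem r'.mem hl, n, d, _, minv_eq (h := f') ▸ t.2, cj_cj _ l y ▸ o⟩

/-- pure vectors -/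
def Pu (D : Dt G) (y : G) : Prop := ∃ k ∈ 𝐍(D.A), cj k D.z = y

theorem Pu.cj (h : Pu D y) (hk : k ∈ 𝐍(D.A)) : Pu D (cj k y) := let ⟨l, a, e⟩ := h; ⟨_, mul_mem hk a, by rw [← cj_cj, e]⟩

theorem pu_a {m : ℕ} (a : m < 1024) (h : pure m = true) : Pu D (D.a m) :=
  let ⟨v, e⟩ := (orb_A (D := D) a).resolve_left ((pure_iff a).1 h).1; ⟨_, ρ_mem v, by rw [← e, h]; rfl⟩

theorem pair_S (ht : t ∈ D.S) (hs : s ∈ D.S) (t2 : t * t = 1) (s2 : s * s = 1) (c : Commute t s) (a : t ∉ D.A) (b : s ∉ D.A)
    (d : s * t⁻¹ ∉ D.A) : ∃ w ∈ D.A, Commute t w ∧ Pu D (w * cj s w) := by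
  obtain ⟨m, hm, k, hk, r⟩ := S_rp ht
  obtain ⟨m', hm', k', hk', r'⟩ := S_rp hs
  obtain ⟨i, hi, e⟩ := idx hk (fix_of_sq hm r t2).2
  obtain ⟨j, hj, e'⟩ := idx hk' (fix_of_sq hm' r' s2).2
  have q := of_allLt (show allLt 192 (fun i => forceB (ik i) fun a => band
    (allLt 5 fun k => forceB (get 10 TW (5 * i + k)) fun m => Nat.beq (app 10 (lam a) m) m)
    (allLt 192 fun j => forceB (ik j) fun b => bor (bor (Nat.beq a 17043521) (bor (Nat.beq b 17043521) (Nat.beq b a)))
      (bor (!Nat.beq (mu a b) (mu b a)) (forceB (lam b) fun L => anyLt 5 fun k => forceB (get 10 TW (5 * i + k)) fun m =>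
        pure (m ^^^ app 10 L m))))) = true by decide +kernel) hi
  simp only [forceB_eq, band_eq_true, allLt_iff] at q
  have t' := q.2 j hj
  simp only [bor_eq_true, beq_iff, anyLt_iff, e, e'] at q t'
  obtain ⟨_, f⟩ := cd_of hm r
  obtain ⟨_, f'⟩ := cd_of hm' r'
  rcases t' with (o | o | o) | o | ⟨l, hl, o⟩
  · exact absurd (r.mem_A.2 ((lo_hi hm).2.trans o)) a
  · exact absurd (r'.mem_A.2 ((lo_hi hm').2.trans o)) b
  · exact absurd ((D.md.q.ker (mul_mem hs.1 (inv_mem ht.1))).1 ((peq D.md.q.hom hs.1 ht.1).1 ((cd_eq (h := f') (k := f)).2 o))) d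
  · have : mu (uc k) (uc k') = mu (uc k') (uc k) :=
      cd_eq.1 (show D.π t * D.π s = D.π s * D.π t by rw [← π_mul ht.1 hs.1, c.eq, π_mul hs.1 ht.1])
    simp [this] at o
  · refine ⟨_, a_mem _, (r.cm_a (get_lt _ _ _)).2 (by rw [(lo_hi hm).2]; exact q.1 l hl), ?_⟩
    rw [r'.cj_a, (lo_hi hm').2, ← a_xor]
    exact pu_a (Nat.xor_lt_two_pow (n := 10) (get_lt _ _ _) (app_lt _ _ _)) o

theorem pair (p : IsPGroup 2 U) (l : U ≤ 𝐍(D.A)) (ht : t ∈ U) (hs : s ∈ U) (t2 : t * t = 1) (s2 : s * s = 1) (c : Commute t s)
    (a : t ∉ D.A) (b : s ∉ D.A) (d : s * t⁻¹ ∉ D.A) : ∃ w ∈ D.A, Commute t w ∧ Pu D (w * cj s w) := by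
  obtain ⟨k, hk, f⟩ := syl_S.exists_conj_le p l
  obtain ⟨w, hw, e, o⟩ := pair_S (t := cj k t) (s := cj k s) (f (Transfer.conj_mem_conj.2 ht)) (f (Transfer.conj_mem_conj.2 hs))
    (cj_mul_self t2 k) (cj_mul_self s2 k) (Commute_cj k c) (mt (cj_norm hk).1 a) (mt (cj_norm hk).1 b)
    (by rw [← cj_inv, ← cj_mul]; exact mt (cj_norm hk).1 d)
  exact ⟨cj k⁻¹ w, (cj_norm (inv_mem hk)).2 hw, commute_cj_left.1 e, by
    have := o.cj (inv_mem hk); rwa [cj_mul, cj_cj' k⁻¹, cj_inv_cj] at this⟩

theorem le8 (h : t ∈ 𝐍(D.A)) (t2 : t * t = 1) (a : t ∉ D.A) (l : I ≤ D.A ⊓ 𝐂[t]) (n : ∀ y ∈ I, ¬ Pu D y) : Nat.card I ≤ 8 := by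
  obtain ⟨k, hk, m, hm, c, e, r⟩ := cls h t2
  have l' : k ⋆ I ≤ D.A ⊓ 𝐂[cj k t] := Transfer.conj_le_iff.2 fun y hy =>
    ⟨(cj_norm hk).2 (l hy).1, mem_cent1.2 (Commute_cj k (mem_cent1.1 (l hy).2))⟩
  have cd : Nat.card ↥(D.A ⊓ 𝐂[cj k t]) = ((List.range (2 ^ 10)).filter fun m => Nat.beq (app 10 (lam c) m) m).length :=
    card_sub D.bs inf_le_left fun n hn => by
      have := r.cm_a hn
      rw [(lo_hi hm).2] at this
      exact (and_iff_right (a_mem n)).trans (mem_cent1.trans (eq_comm.trans (this.trans beq_iff.symm)))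
  have key : ∀ j, (∀ i < 10, j.testBit i = false → app 10 (lam c) (2 ^ i) = 2 ^ i) → (∀ m < 1024, m &&& j = 0 → m = 0 ∨ pure m = true) →
      Nat.card I * Nat.card (D.Am j) ≤ Nat.card ↥(D.A ⊓ 𝐂[cj k t]) := fun j h1 h2 => by
    have b : k ⋆ I ⊓ D.Am j = ⊥ := eq_bot_iff.2 (by
      rintro _ ⟨hy, m, a, b, rfl⟩
      exact (h2 m a b).elim (fun e => e ▸ a_zero) fun e =>
        absurd ((pu_a a e).cj (inv_mem hk)) (n _ (by simpa only [cj, inv_inv] using Transfer.mem_conj.1 hy)))
    have := Loc.card_mul_card_le_sup_inf (k ⋆ I) (D.Am j)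
    rw [b, card_bot, mul_one, Transfer.card_conj] at this
    refine this.trans (card_le_of_le (sup_le l' (le_inf Am_le (Am_le_of fun i hi e => mem_cent1.2 (Commute.symm ?_)))))
    exact (r.cm_a (Nat.pow_lt_pow_right (a := 2) one_lt_two hi)).2 (by rw [(lo_hi hm).2]; exact h1 i hi e)
  obtain rfl | rfl | rfl := e
  · exact absurd ((cj_norm hk).1 (r.mem_A.2 (lo_hi hm).2)) a
  · have := key 948 (by decide +kernel) (by decide +kernel)
    rw [cd, card_Am, show (List.filter _ (List.range 1024)).length = 16 by decide +kernel,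
      show (List.filter _ (List.range (2 ^ 10))).length = 128 by decide +kernel] at this
    omega
  · have := key 956 (by decide +kernel) (by decide +kernel)
    rw [cd, card_Am, show (List.filter _ (List.range 1024)).length = 8 by decide +kernel,
      show (List.filter _ (List.range (2 ^ 10))).length = 64 by decide +kernel] at this
    omega

end Cfsg.Lib.X10.HN
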