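import Cfsg.Agent.Lib.X10.Base
import Cfsg.Agent.Lib.F2.Cover
import Cfsg.Agent.Lib.Calc.Net

/-!
# Offenders of the Sylow 2-subgroup of `L₅(2)` on `Λ²V`: the search (helper9)
-/

set_option autoImplicit false
set_option maxRecDepth 100000
set_option exponentiation.threshold 12000

namespace Cfsg.Lib.X10.Off

open Cfsg.Lib.Calc Cfsg.Lib.F2 Finset
open Cfsg.Lib.L72 (mu)

/-- the numbers of the 192 elements of order at most two -/
def IL : ℕ := 0xf7bd4f27c3e7b94e2783d7b54d2f41c7b14c2f01b2ec9b1ac4a2e89a1a8491a4490e4181a0480e017edf36edb35a5614a5211ec731a4610ec330a421f2b8ad2b0ab0a8290a0272dc362d8352541425017a1e06a1a05e1704e1303e0f03a0e0370d6338cc2e0b02a0a0270962388c170561384c070160380c761d0661905615046110368d22689216852068127c1b858128350c4278861e0701a06017854118447218852108328c222882340981605012c4910c4102c0900c01320887e1b05a120378c6250840e0300a02007814018041284202802360900601012008f0380d0300b02809020070180501003008010000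

/-- the inverse table -/
def IX : ℕ := 0xbf000000000000000000be0000000000000000008fbd0000000000bc00000f000000000000000000000000000000000000000000000000000000000000000000bb000000000000000000ba0000000000000000008eb90000000000b800000e000000000000000000000000000000000000000000000000000000000000000000b7000000000000000000b60000000000000000b58d0000000000000000b40d000000000000000000000000000000000000000000000000000000000000000000b3000000000000000000b20000000000000000b18c0000000000000000b00c00000000000000000000000000000000000000000000000000000000000000000000000000000000000000000000000000000000af00ae0000ad00ac008b000b00000000000000000000000000000000000000000000000000000000000000000000000000000000000000000000000000000000ab00aa0000a900a8008a000a000000000000000000000000000000000000000000000000000000000000000000000000000000000000000000000000000000000000000000a700a6a589a409000000000000000000000000000000000000000000000000000000000000000000000000000000000000000000000000000000000000000000a300a2a188a008000000009f000029000000009e00004f000000000000007f0000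00000000007e000000000000005f000000000000005e000000008700003f0000000086000007000000009d00004e000000009c000028000000000000007d000000000000007c000000000000005d000000000000005c000000008500003e0000000084000006000000000000007b000000000000007a0000000000009b270000000000009a4d000000000000005b000000000000005a000000000000833d000000000000820500000000000000790000000000000078000000000000994c000000000000982600000000000000590000000000000058000000000000813c0000000000008004000000000000007700000000000000760000000000000075000000000000007400250073005700150072004b0056003700710070003b002b0024004a003a0003000000000000006f000000000000006e000000000000006d000000000000006c0049006b00550036006a002300540014006900680039002a00480022003800020000000097000047000000009600004600000000000095450000000000009444004300670053003500660042005200340065006433193211004100403118300100000000930000210000000092000020000000000000911f000000000000901e001d0063005100130062001c00500012006100602f172e10001b001a2d162c00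

/-- the matrix with index `i` -/
def ik (i : ℕ) : ℕ := uc (get 10 IL i)

/-- the number of fields with lowest bit set -/
def cnt (w O X : ℕ) : ℕ := Nat.mod (Nat.land X O) (msk w)

theorem card_le_cnt {w n X : ℕ} {S : Finset ℕ} (hw : 0 < w) (hn : n < 2 ^ w - 1) (h : ∀ k ∈ S, k < n ∧ X.testBit (w * k) = true) :
    S.card ≤ cnt w (ones w n) X := by
  have e := shift_land_ones hw n X
  have := pack_modEq w 0 n fun k => if (get w X k).testBit 0 then 1 else 0
  rw [add_zero, pack_zero_left, ← card_filter, ← e] at this
  change _ ≤ (X &&& ones w n) % msk w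
  rw [msk_eq, show X &&& ones w n = X >>> 0 &&& ones w n from rfl, this,
    Nat.mod_eq_of_lt (lt_of_le_of_lt ((card_filter_le _ _).trans (card_range n).le) hn)]
  exact card_le_card fun k hk => mem_filter.2 ⟨mem_range.2 (h k hk).1, by rw [testBit_get, add_zero, (h k hk).2, decide_eq_true hw]; rfl⟩

/-- the matrices which commute with number `i` -/
noncomputable def cr (i : ℕ) : ℕ := forceN (ik i) fun a => pack 8 (fun j => forceN (ik j) fun b => cnd (Nat.beq (mu a b) (mu b a)) 1 0) 192

theorem cr_lt (i : ℕ) : cr i < 2 ^ 1536 := by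
  rw [cr, forceN_eq]
  exact pack_lt (w := 8) fun j _ => by rw [forceN_eq]; cases Nat.beq _ _ <;> decide

theorem cr_bit {i j : ℕ} (hj : j < 192) (h : mu (ik i) (ik j) = mu (ik j) (ik i)) : (cr i).testBit (8 * j) = true := by
  have := testBit_pack (w := 8) (n := 192) (f := fun j => forceN (ik j) fun b => cnd (Nat.beq (mu (ik i) b) (mu b (ik i))) 1 0)
    (fun j _ => by rw [forceN_eq]; cases Nat.beq _ _ <;> decide) j 0 (by decide)
  rw [cr, forceN_eq, ← add_zero (8 * j), this, forceN_eq, h, Nat.beq_refl, decide_eq_true hj]; rfl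

/-- the union of the first shifts -/
noncomputable def orS (Y n : ℕ) : ℕ := Nat.rec (motive := fun _ => ℕ) 0 (fun j ih => Nat.lor ih (Nat.shiftRight Y j)) n

/-- the vectors fixed by number `i` -/
noncomputable def fr (O X i : ℕ) : ℕ := forceN (lam (ik i)) fun C => forceN (pack 11 (get 10 C) 10) fun C' =>
  forceN (Nat.xor (pappO 11 O C' X) X) fun Y => Nat.xor O (Nat.land O (orS Y 11))

theorem app11 {C m : ℕ} (hm : m < 1024) : app 11 (pack 11 (get 10 C) 10) m = app 10 C m := by
  have : ∀ j ≤ 10, appA 11 (pack 11 (get 10 C) 10) m j = appA 10 C m j := fun j hj => by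
    induction j with
    | zero => rfl
    | succ j ih => rw [appA_succ, appA_succ, ih (by omega), get_pack (fun i _ => (get_lt _ _ _).trans (by decide)) hj]
  rw [app, appA_succ, Nat.testBit_lt_two_pow hm, this 10 le_rfl]; simp [app]

theorem ones_lt : ones 11 1024 < 2 ^ 11264 := pack_lt (w := 11) fun _ _ => by decide

theorem fr_lt (X i : ℕ) : fr (ones 11 1024) X i < 2 ^ 11264 := by
  simp only [fr, forceN_eq]
  exact Nat.xor_lt_two_pow ones_lt (lt_of_le_of_lt Nat.and_le_left ones_lt)

theorem fr_bit {i m : ℕ} (hm : m < 1024) (h : app 10 (lam (ik i)) m = m) :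
    (fr (ones 11 1024) (pack 11 id 1024) i).testBit (11 * m) = true := by
  have o : (ones 11 1024).testBit (11 * m) = true := by
    have := testBit_pack (w := 11) (n := 1024) (f := fun _ => 1) (fun _ _ => by decide) m 0 (by decide)
    rwa [decide_eq_true hm] at this
  have g : get 11 (pack 11 id 1024) m = m := get_pack (fun i hi => hi.trans (by decide)) hm
  have z : ∀ Y, get 11 Y m = 0 → ∀ n ≤ 11, (orS Y n).testBit (11 * m) = false := fun Y e n hn => by
    induction n with
    | zero => exact Nat.zero_testBit _
    | succ n ih =>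
      have := congrArg (Nat.testBit · n) e
      simp only [testBit_get, decide_eq_true (show n < 11 from hn), Bool.true_and, Nat.zero_testBit] at this
      change (orS Y n ||| Y >>> n).testBit _ = _
      rw [Nat.testBit_or, ih (by omega), Nat.testBit_shiftRight, add_comm, this]; rfl
  simp only [fr, forceN_eq]
  change Nat.testBit (_ ^^^ (_ &&& _)) _ = _
  rw [Nat.testBit_xor, Nat.testBit_and, o, z _ _ 11 le_rfl]; · rfl
  change get 11 (papp 11 1024 _ _ ^^^ _) m = 0
  rw [get_xor, get_papp hm, g, app11 hm, h, Nat.xor_self]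

/-- the highest field, by bisection -/
noncomputable def lg8 (K : ℕ) : ℕ :=
  Nat.rec (motive := fun _ => ℕ → ℕ) (fun a => a) (fun j ih a => forceN (Nat.add a (Nat.shiftLeft 1 j))
    fun b => Bool.rec (ih b) (ih a) (Nat.beq (Nat.shiftRight K (Nat.mul 8 b)) 0)) 8 0

/-- evaluation with a check sum in the low bits -/
noncomputable def frs (X : ℕ) (k : ℕ → Bool) : Bool :=
  forceB (Nat.add (Nat.shiftLeft X 64) (Nat.mod X 18446744073709551557)) fun Y => k (Nat.shiftRight Y 64)

theorem frs_eq (X : ℕ) (k : ℕ → Bool) : frs X k = k X := by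
  rw [frs, forceB_eq]
  congr 1
  change (X <<< 64 + X % 18446744073709551557) >>> 64 = X
  have := Nat.mod_lt X (show 0 < 18446744073709551557 by decide)
  rw [Nat.shiftLeft_eq, Nat.shiftRight_eq_div_pow]
  omega

/-- one step of the search -/
noncomputable def st (TC TF O8 O11 : ℕ) (ih : ℕ → ℕ → ℕ → ℕ → Bool) (Q P F f : ℕ) : Bool :=
  bor (blt (Nat.mul (cnt 8 O8 P) f) 1024) (forceB (lg8 Q) fun i => forceB (Nat.shiftLeft 1 (Nat.mul 8 i)) fun b =>
    frs (Nat.xor Q b) fun Q' => band (frs (Nat.land F (get 11264 TF i)) fun F' =>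
      frs (Nat.land Q' (get 1536 TC i)) fun Q₁ => frs (Nat.land P (get 1536 TC i)) fun P₁ => forceB (cnt 11 O11 F') (ih Q₁ P₁ F'))
      (frs (Nat.xor P b) fun P' => ih Q' P' F f))

/-- the search -/
noncomputable def go (TC TF O8 O11 fuel : ℕ) : ℕ → ℕ → ℕ → ℕ → Bool :=
  Nat.rec (motive := fun _ => ℕ → ℕ → ℕ → ℕ → Bool) (fun _ _ _ _ => false) (fun _ ih => st TC TF O8 O11 ih) fuel

variable {K Fs : Finset ℕ} {TC TF : ℕ}

theorem go_spec (hK : ∀ i ∈ K, i < 192) (hF : ∀ m ∈ Fs, m < 1024) (hc : ∀ i ∈ K, ∀ j ∈ K, (get 1536 TC i).testBit (8 * j) = true)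
    (hf : ∀ i ∈ K, ∀ m ∈ Fs, (get 11264 TF i).testBit (11 * m) = true) (big : 1024 ≤ K.card * Fs.card) (fuel : ℕ) :
    ∀ Q P F f, (∀ j ∈ K, P.testBit (8 * j) = true) → (∀ m ∈ Fs, F.testBit (11 * m) = true) → Fs.card ≤ f →
      go TC TF (ones 8 192) (ones 11 1024) fuel Q P F f = false := by
  induction fuel with
  | zero => intros; rfl
  | succ n ih =>
    intro Q P F f hP hF' hf'
    by_contra h
    rw [Bool.not_eq_false] at h
    change st TC TF _ _ (go TC TF (ones 8 192) (ones 11 1024) n) Q P F f = true at h
    simp only [st, bor_eq_true, forceB_eq, frs_eq, band_eq_true, blt_iff] at h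
    rcases h with h | ⟨h1, h2⟩
    · exact absurd (big.trans (Nat.mul_le_mul (card_le_cnt (by decide) (by decide) fun k hk => ⟨hK k hk, hP k hk⟩) hf')) h.not_ge
    by_cases m : lg8 Q ∈ K
    · have a : ∀ x ∈ Fs, (F &&& get 11264 TF (lg8 Q)).testBit (11 * x) = true := fun x hx => by
        rw [Nat.testBit_and, hF' x hx, hf _ m x hx]; rfl
      exact Bool.false_ne_true ((ih _ _ _ _ (fun j hj => by rw [Nat.land_eq, Nat.testBit_and, hP j hj, hc _ m j hj]; rfl) a
        (card_le_cnt (by decide) (by decide) fun k hk => ⟨hF k hk, a k hk⟩)).symm.trans h1)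
    · refine Bool.false_ne_true ((ih _ _ _ _ (fun j hj => ?_) hF' hf').symm.trans h2)
      rw [Nat.xor_eq, Nat.testBit_xor, hP j hj, shl_eq, one_mul, Nat.testBit_two_pow, decide_eq_false]; · rfl
      exact fun e => m ((Nat.eq_of_mul_eq_mul_left (by decide : 0 < 8) e) ▸ hj)

/-- the whole search -/
noncomputable def all : Bool := forceB (ones 8 192) fun O8 => forceB (ones 11 1024) fun O11 => forceB (pack 11 id 1024) fun X =>
  forceB (pack 1536 cr 192) fun TC => forceB (pack 11264 (fr O11 X) 192) fun TF => allLt 176 fun t => forceB (Nat.add t 16) fun i =>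
    frs (get 1536 TC i) fun c => frs (get 11264 TF i) fun F => forceB (cnt 11 O11 F)
      (go TC TF O8 O11 200 (Nat.land c (Nat.xor (msk (Nat.mul 8 i)) 1)) (Nat.land c (msk (Nat.mul 8 (Nat.succ i)))) F)

theorem all_ok : all = true := by decide +kernel

theorem lt16 (hK : ∀ i ∈ K, i < 192) (hF : ∀ m ∈ Fs, m < 1024) (hc : ∀ i ∈ K, ∀ j ∈ K, mu (ik i) (ik j) = mu (ik j) (ik i))
    (hf : ∀ i ∈ K, ∀ m ∈ Fs, app 10 (lam (ik i)) m = m) (big : 1024 ≤ K.card * Fs.card) : ∀ i ∈ K, i < 16 := fun i hi => by
  by_contra h
  have m := K.max'_mem ⟨i, hi⟩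
  have l := K.le_max' i hi
  have l' : ∀ j ∈ K, j ≤ K.max' ⟨i, hi⟩ := fun j hj => K.le_max' j hj
  generalize K.max' ⟨i, hi⟩ = k at m l l'
  have a := all_ok
  simp only [all, forceB_eq, frs_eq] at a
  have := of_allLt a (show k - 16 < 176 by have := hK k m; omega)
  rw [show Nat.add (k - 16) 16 = k from Nat.sub_add_cancel (by omega)] at this
  have c : ∀ i ∈ K, ∀ j ∈ K, (get 1536 (pack 1536 cr 192) i).testBit (8 * j) = true := fun i hi j hj => by
    rw [get_pack (fun i _ => cr_lt i) (hK i hi)]; exact cr_bit (hK j hj) (hc i hi j hj)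
  have f : ∀ i ∈ K, ∀ m ∈ Fs, (get 11264 (pack 11264 (fr (ones 11 1024) (pack 11 id 1024)) 192) i).testBit (11 * m) = true :=
    fun i hi m hm => by rw [get_pack (fun i _ => fr_lt _ i) (hK i hi)]; exact fr_bit (hF m hm) (hf i hi m hm)
  refine Bool.false_ne_true ((go_spec hK hF c f big 200 _ _ _ _ (fun j hj => ?_) (f k m)
    (card_le_cnt (by decide) (by decide) fun x hx => ⟨hF x hx, f k m x hx⟩)).symm.trans this)
  rw [Nat.land_eq, Nat.testBit_and, c k m j hj, msk_eq, Nat.testBit_two_pow_sub_one, decide_eq_true]; · rfl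
  have := l' j hj
  change 8 * j < 8 * (k + 1)
  omega

theorem idx {k : ℕ} (hk : k < 1024) (h : mu (uc k) (uc k) = 17043521) : ∃ i < 192, ik i = uc k := by
  have := allBig_iff.1 (show allBig 1024 (fun k => bor (!Nat.beq (mu (uc k) (uc k)) 17043521) (band (blt (get 8 IX k) 192)
    (Nat.beq (ik (get 8 IX k)) (uc k)))) = true by decide +kernel) k hk
  rw [h, bor_eq_true, band_eq_true, blt_iff, beq_iff] at this
  exact ⟨_, this.resolve_left (by decide)⟩

theorem ik_tu : ∀ i < 16, ik i = tu i := by decide +kernel

theorem fixT {u m : ℕ} (hu : u < 16) (hm : m < 1024) (h : app 10 (lam (tu u)) m = m) : u = 0 ∨ m / 64 = 0 ∨ m / 64 = u := by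
  have := allBig_iff.1 (forceB_eq _ _ ▸ of_allLt (show allLt 16 (fun u => forceB (lam (tu u)) fun C => allBig 1024 fun m =>
    bor (bor (Nat.beq u 0) (bor (Nat.beq (m / 64) 0) (Nat.beq (m / 64) u))) (!Nat.beq (app 10 C m) m)) = true by decide +kernel) hu) m hm
  rw [h, Nat.beq_refl, bor_eq_true, bor_eq_true, bor_eq_true, beq_iff, beq_iff, beq_iff] at this
  exact this.resolve_right (by decide)

end Cfsg.Lib.X10.Off
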